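import Groth.Agent.DblAlgLib.Pairing
import Groth.Prelude.Def_FinCov

/-!
# The algebra `O ⊕ L` of a pairing on an invertible module
-/

set_option autoImplicit false

noncomputable section

universe u

open CategoryTheory CategoryTheory.Limits AlgebraicGeometry TopologicalSpace Opposite
open Groth.Agent.QCohBase

namespace Groth.Agent.DblAlgLib

variable {X : Scheme.{u}} {L : X.Modules}

/-- sections of the algebra -/
structure DSec (m : CohB1.tensorMod L L ⟶ Coh.structureModule X) (hL : PicF.IsInvertible L)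
    (U : X.Opens) : Type u where
  /-- the function part -/
  s : Γ(X, U)
  /-- the module part -/
  l : Γ(L, U)

variable (m : CohB1.tensorMod L L ⟶ Coh.structureModule X) (hL : PicF.IsInvertible L)

namespace DSec

variable {m hL} {U : X.Opens}

@[ext] theorem ext' {x y : DSec m hL U} (h1 : x.s = y.s) (h2 : x.l = y.l) : x = y := by
  cases x; cases y; cases h1; cases h2; rfl

instance : Zero (DSec m hL U) := ⟨⟨0, 0⟩⟩
instance : One (DSec m hL U) := ⟨⟨1, 0⟩⟩
instance : Add (DSec m hL U) := ⟨fun x y => ⟨x.s + y.s, x.l + y.l⟩⟩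
instance : Neg (DSec m hL U) := ⟨fun x => ⟨-x.s, -x.l⟩⟩
instance : Mul (DSec m hL U) := ⟨fun x y => ⟨x.s * y.s + pr m U x.l y.l, x.s • y.l + y.s • x.l⟩⟩

@[simp] theorem zero_s : (0 : DSec m hL U).s = 0 := rfl
@[simp] theorem zero_l : (0 : DSec m hL U).l = 0 := rfl
@[simp] theorem one_s : (1 : DSec m hL U).s = 1 := rfl
@[simp] theorem one_l : (1 : DSec m hL U).l = 0 := rfl
@[simp] theorem add_s (x y : DSec m hL U) : (x + y).s = x.s + y.s := rfl
@[simp] theorem add_l (x y : DSec m hL U) : (x + y).l = x.l + y.l := rfl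
@[simp] theorem neg_s (x : DSec m hL U) : (-x).s = -x.s := rfl
@[simp] theorem neg_l (x : DSec m hL U) : (-x).l = -x.l := rfl
@[simp] theorem mul_s (x y : DSec m hL U) : (x * y).s = x.s * y.s + pr m U x.l y.l := rfl
@[simp] theorem mul_l (x y : DSec m hL U) : (x * y).l = x.s • y.l + y.s • x.l := rfl

instance : CommRing (DSec m hL U) where
  add_assoc x y z := by ext <;> simp [add_assoc]
  zero_add x := by ext <;> simp
  add_zero x := by ext <;> simp
  add_comm x y := by ext <;> simp [add_comm]
  neg_add_cancel x := by ext <;> simp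
  nsmul := nsmulRec
  zsmul := zsmulRec
  left_distrib x y z := by
    ext
    · simp [pr_add_right]; ring
    · simp [smul_add, add_smul]; abel
  right_distrib x y z := by
    ext
    · simp [pr_add_left]; ring
    · simp [smul_add, add_smul]; abel
  zero_mul x := by ext <;> simp [pr_zero_left]
  mul_zero x := by ext <;> simp [pr_zero_right]
  one_mul x := by ext <;> simp [pr_zero_left]
  mul_one x := by ext <;> simp [pr_zero_right]
  mul_comm x y := by
    ext
    · simp [mul_comm x.s, pr_symm m hL U x.l]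
    · simp [add_comm]
  mul_assoc x y z := by
    ext
    · simp [pr_add_left, pr_add_right, pr_smul_left, pr_smul_right]; ring
    · simp only [mul_l, mul_s, smul_add, add_smul, smul_smul]
      rw [mul_comm x.s z.s, ← pr_assoc m hL U x.l y.l z.l, mul_comm z.s y.s, mul_comm z.s x.s]
      abel

/-- restriction -/
def res {V : X.Opens} (h : V ≤ U) : DSec m hL U →+* DSec m hL V where
  toFun x := ⟨ores h x.s, mres L h x.l⟩
  map_one' := by ext <;> simp
  map_zero' := by ext <;> simp
  map_add' x y := by ext <;> simp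
  map_mul' x y := by
    ext
    · simp [res_pr]
    · simp [mres_smul]

/-- inclusion of the functions -/
def inl : Γ(X, U) →+* DSec m hL U where
  toFun f := ⟨f, 0⟩
  map_one' := rfl
  map_zero' := rfl
  map_add' f g := by ext <;> simp
  map_mul' f g := by ext <;> simp [pr_zero_left]

theorem inl_mul (f : Γ(X, U)) (x : DSec m hL U) :
    inl f * x = (⟨f * x.s, f • x.l⟩ : DSec m hL U) := by
  ext <;> simp [inl, pr_zero_left]

end DSec

/-- the presheaf of rings `U ↦ O(U) ⊕ L(U)` -/
def algPresheaf : TopCat.Presheaf CommRingCat.{u} X.carrier where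
  obj U := CommRingCat.of (DSec m hL U.unop)
  map i := CommRingCat.ofHom (DSec.res i.unop.le)
  map_id U := by
    refine CommRingCat.hom_ext (RingHom.ext fun x => DSec.ext' ?_ (mres_refl L _ x.l))
    exact congr($(X.presheaf.map_id U) x.s)
  map_comp {U V W} i j := by
    refine CommRingCat.hom_ext (RingHom.ext fun x => DSec.ext' ?_ ?_)
    · exact (ores_ores i.unop.le j.unop.le x.s).symm
    · exact (mres_mres L i.unop.le j.unop.le x.l).symm

theorem isSheaf_algPresheaf : (algPresheaf m hL).IsSheaf := by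
  refine (TopCat.Presheaf.isSheaf_iff_isSheaf_comp (forget CommRingCat) _).mpr
    ((TopCat.Presheaf.isSheaf_iff_isSheafUniqueGluing _).mpr fun ι U sf hsf => ?_)
  obtain ⟨s, hs, hs'⟩ := X.sheaf.existsUnique_gluing U (fun i => (sf i).s)
    (fun i j => congrArg DSec.s (hsf i j))
  obtain ⟨l, hl, hl'⟩ := TopCat.Sheaf.existsUnique_gluing
    (⟨L.presheaf, L.isSheaf⟩ : TopCat.Sheaf Ab X) U (fun i => (sf i).l)
    (fun i j => congrArg DSec.l (hsf i j))
  exact ⟨⟨s, l⟩, fun i => DSec.ext' (hs i) (hl i), fun x hx =>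
    DSec.ext' (hs' x.s fun i => congrArg DSec.s (hx i)) (hl' x.l fun i => congrArg DSec.l (hx i))⟩

/-- the structure map -/
def algStr : X.presheaf ⟶ algPresheaf m hL where
  app U := CommRingCat.ofHom DSec.inl
  naturality {U V} i := by
    refine CommRingCat.hom_ext (RingHom.ext fun x => DSec.ext' rfl ?_)
    exact (map_zero (mres L i.unop.le)).symm

theorem isQC_algPresheaf : RelSpec.IsQC (algPresheaf m hL) (algStr m hL) := by
  intro U hU r
  haveI : L.IsQuasicoherent := TensorMod.isQCoh_of_isInvertible hL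
  haveI : (Coh.structureModule X).IsQuasicoherent := TensorMod.isQCoh_structureModule X
  have hle := X.basicOpen_le r
  letI : Algebra (DSec m hL U) (DSec m hL (X.basicOpen r)) := (DSec.res hle).toAlgebra
  have hpow : ∀ (V : X.Opens) (f : Γ(X, V)) (n : ℕ),
      (DSec.inl f : DSec m hL V) ^ n = DSec.inl (f ^ n) := fun V f n => (map_pow _ _ _).symm
  refine (IsLocalization.Away.mk (S := DSec m hL (X.basicOpen r)) (DSec.inl r : DSec m hL U) ?_
    (fun z => ?_) (fun a c h => ?_) :)
  · change IsUnit (DSec.res hle (DSec.inl r))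
    rw [show DSec.res hle (DSec.inl r) = (DSec.inl (ores hle r) : DSec m hL _) from
      DSec.ext' rfl (map_zero _)]
    exact (X.toRingedSpace.isUnit_res_basicOpen r).map DSec.inl
  · obtain ⟨n₁, y₁, h₁⟩ := exists_pow_smul_eq_mres (Coh.structureModule X) hU r rfl hle z.s
    obtain ⟨n₂, y₂, h₂⟩ := exists_pow_smul_eq_mres L hU r rfl hle z.l
    change ores hle y₁ = ores hle r ^ n₁ * z.s at h₁
    refine ⟨n₁ + n₂, ⟨r ^ n₂ * (show Γ(X, U) from y₁), r ^ n₁ • y₂⟩, ?_⟩
    change z * DSec.res hle (DSec.inl r) ^ (n₁ + n₂) = _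
    rw [← map_pow, hpow, mul_comm,
      show DSec.res hle (DSec.inl (r ^ (n₁ + n₂))) = (DSec.inl (ores hle (r ^ (n₁ + n₂))) : DSec m hL _)
        from DSec.ext' rfl (map_zero _), DSec.inl_mul]
    refine DSec.ext' ?_ ?_
    · change _ = ores hle (r ^ n₂ * _)
      rw [map_mul, h₁, map_pow, map_pow, ← mul_assoc, ← pow_add, add_comm n₂]
    · change _ = mres L hle (r ^ n₁ • y₂)
      rw [mres_smul, h₂, smul_smul, map_pow, map_pow, ← pow_add]
  · obtain ⟨n₁, h₁⟩ := exists_pow_smul_eq_zero (Coh.structureModule X) hU r rfl hle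
      (show Γ(X, U) from a.s - c.s) (show ores hle (a.s - c.s) = 0 by
        rw [map_sub, sub_eq_zero]; exact congrArg DSec.s h)
    obtain ⟨n₂, h₂⟩ := exists_pow_smul_eq_zero L hU r rfl hle (a.l - c.l) (by
        rw [map_sub, sub_eq_zero]; exact congrArg DSec.l h)
    change r ^ n₁ * (a.s - c.s) = 0 at h₁
    refine ⟨n₁ + n₂, ?_⟩
    rw [hpow, DSec.inl_mul, DSec.inl_mul]
    refine DSec.ext' ?_ ?_
    · change r ^ (n₁ + n₂) * a.s = r ^ (n₁ + n₂) * c.s
      rw [← sub_eq_zero, ← mul_sub, add_comm, pow_add, mul_assoc, h₁, mul_zero]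
    · change r ^ (n₁ + n₂) • a.l = r ^ (n₁ + n₂) • c.l
      rw [← sub_eq_zero, ← smul_sub, pow_add, mul_smul, h₂, smul_zero]

/-- the quasi-coherent algebra `O ⊕ L` -/
def algebra : RelSpec.QCAlg X where
  presheaf := algPresheaf m hL
  isSheaf := isSheaf_algPresheaf m hL
  str := algStr m hL
  isQC := isQC_algPresheaf m hL

/-- the inclusion of `L` -/
def incl : L ⟶ (algebra m hL).toModule :=
  ⟨letI := (algebra m hL).moduleSect
   PresheafOfModules.homMk
    { app := fun U => AddCommGrpCat.ofHom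
        { toFun := fun l => (⟨0, l⟩ : DSec m hL U.unop)
          map_zero' := rfl
          map_add' := fun l l' => DSec.ext' (zero_add 0).symm rfl }
      naturality := fun U V i => by
        refine AddCommGrpCat.hom_ext (AddMonoidHom.ext fun l => DSec.ext' ?_ rfl)
        exact (map_zero (ores i.unop.le)).symm }
    (fun U (f : Γ(X, U.unop)) (l : Γ(L, U.unop)) => (DSec.ext' (mul_zero _).symm rfl :
      (⟨0, f • l⟩ : DSec m hL U.unop) = ⟨f * 0, f • l⟩).trans
        (DSec.inl_mul (m := m) (hL := hL) f ⟨0, l⟩).symm)⟩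

theorem isDblAlg : FinCov.IsDblAlg L m (algebra m hL) (incl m hL) := by
  have key' : ∀ (U : X.Opens) (l l' : Γ(L, U)),
      (⟨0, l⟩ * ⟨0, l'⟩ : DSec m hL U) = DSec.inl (pr m U l l') := fun U l l' => by
    ext <;> simp [DSec.inl]
  have key : ∀ (U : X.Opens) (f : Γ(X, U)) (l : Γ(L, U)),
      (DSec.inl f : DSec m hL U) + ⟨0, l⟩ = ⟨f, l⟩ := fun U f l => by ext <;> simp [DSec.inl]
  refine ⟨fun U => Function.bijective_iff_has_inverse.2
    ⟨fun x => ((x : DSec m hL U).s, (x : DSec m hL U).l), fun p => ?_, fun x => ?_⟩, fun U l l' => ?_⟩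
  · have := key U p.1 p.2
    exact Prod.ext (congrArg DSec.s this) (congrArg DSec.l this)
  · exact key U (x : DSec m hL U).s (x : DSec m hL U).l
  · exact key' U l l'

end Groth.Agent.DblAlgLib
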