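import Groth.Prelude.Def_FinCov
import Groth.Agent.TensorMod.FinLocFree

/-!
# The module of a rank two algebra `O ⊕ L`
-/

noncomputable section

universe u

open CategoryTheory CategoryTheory.Limits AlgebraicGeometry TopologicalSpace Opposite

namespace Groth.Agent.DblAlgLib

variable {X : Scheme.{u}}

/-- `O_X^2` is the biproduct of two copies of `O_X` -/
def freeModTwoIso (X : Scheme.{u}) :
    (Coh.structureModule X ⊞ Coh.structureModule X) ≅ FlatMod.freeMod X 2 where
  hom := biprod.desc (Sigma.ι (fun _ : Fin 2 => Coh.structureModule X) 0)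
    (Sigma.ι (fun _ : Fin 2 => Coh.structureModule X) 1)
  inv := Sigma.desc fun i : Fin 2 => if i = 0 then biprod.inl else biprod.inr
  hom_inv_id := by
    refine biprod.hom_ext' _ _ ?_ ?_
    · erw [biprod.inl_desc_assoc, Sigma.ι_desc, Category.comp_id]
      rfl
    · erw [biprod.inr_desc_assoc, Sigma.ι_desc, Category.comp_id]
      rfl
  inv_hom_id := by
    refine Sigma.hom_ext _ _ fun i => ?_
    erw [Sigma.ι_desc_assoc, Category.comp_id]
    fin_cases i <;> simp <;> rfl

/-- `O ⊞ L ⟶ A` is an isomorphism -/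
theorem isIso_desc {L : X.Modules} {m : CohB1.tensorMod L L ⟶ Coh.structureModule X}
    {A : RelSpec.QCAlg X} {j : L ⟶ A.toModule} (h : FinCov.IsDblAlg L m A j) :
    IsIso (biprod.desc (FinCov.strMod A) j) := by
  rw [Scheme.Modules.Hom.isIso_iff_isIso_app]
  intro U
  rw [ConcreteCategory.isIso_iff_bijective]
  set O := Coh.structureModule X
  let f : Γ(O ⊞ L, U) → Γ(X, U) × L.val.obj (op U) := fun x =>
    ((biprod.fst : O ⊞ L ⟶ O).app U x, (biprod.snd : O ⊞ L ⟶ L).app U x)
  have hf : Function.Bijective f := by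
    refine Function.bijective_iff_has_inverse.2 ⟨fun p =>
      (biprod.inl : O ⟶ O ⊞ L).app U p.1 + (biprod.inr : L ⟶ O ⊞ L).app U p.2, fun x => ?_, fun p => ?_⟩
    · exact congr(($(biprod.total (X := O) (Y := L))).app U x)
    · have e1 := congr(($(biprod.inl_fst (X := O) (Y := L))).app U p.1)
      have e2 := congr(($(biprod.inr_fst (X := O) (Y := L))).app U p.2)
      have e3 := congr(($(biprod.inl_snd (X := O) (Y := L))).app U p.1)
      have e4 := congr(($(biprod.inr_snd (X := O) (Y := L))).app U p.2)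
      refine Prod.ext ?_ ?_
      · refine (map_add ((biprod.fst : O ⊞ L ⟶ O).app U).hom _ _).trans ?_
        exact (congr($e1 + $e2)).trans (add_zero _)
      · refine (map_add ((biprod.snd : O ⊞ L ⟶ L).app U).hom _ _).trans ?_
        exact (congr($e3 + $e4)).trans (zero_add _)
  have hd : ∀ x, (biprod.desc (FinCov.strMod A) j).app U x =
      (FinCov.strMod A).app U ((biprod.fst : O ⊞ L ⟶ O).app U x) +
        j.app U ((biprod.snd : O ⊞ L ⟶ L).app U x) := fun x =>
    congr(($(biprod.desc_eq (f := FinCov.strMod A) (g := j))).app U x)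
  have e : ⇑((biprod.desc (FinCov.strMod A) j).app U).hom =
      (fun p : Γ(X, U) × L.val.obj (op U) =>
        (A.str.app (op U)).hom p.1 + FinCov.toSec A ((j.val.app (op U)).hom p.2)) ∘ f := funext hd
  exact (e ▸ (h.1 U).comp hf : _)

/-- the module of such an algebra is `O ⊕ L` -/
def moduleIso {L : X.Modules} {m : CohB1.tensorMod L L ⟶ Coh.structureModule X}
    {A : RelSpec.QCAlg X} {j : L ⟶ A.toModule} (h : FinCov.IsDblAlg L m A j) :
    (Coh.structureModule X ⊞ L) ≅ A.toModule :=
  haveI := isIso_desc h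
  asIso (biprod.desc (FinCov.strMod A) j)

theorem rank_two {L : X.Modules} (hL : PicF.IsInvertible L)
    {m : CohB1.tensorMod L L ⟶ Coh.structureModule X}
    {A : RelSpec.QCAlg X} {j : L ⟶ A.toModule} (h : FinCov.IsDblAlg L m A j) :
    FlatMod.IsFinLocFreeOfRank 2 A.toModule := by
  intro x
  obtain ⟨V, hxV, ⟨t⟩⟩ := hL x
  have := preservesBinaryBiproducts_of_preservesBinaryCoproducts
    (Scheme.Modules.restrictFunctor V.ι)
  let r : (Coh.structureModule X).restrict V.ι ≅ Coh.structureModule (V : Scheme.{u}) :=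
    Scheme.Modules.restrictUnitIso V.ι
  exact ⟨V, hxV, ⟨(Scheme.Modules.restrictFunctor V.ι).mapIso (moduleIso h).symm ≪≫
    (Scheme.Modules.restrictFunctor V.ι).mapBiprod _ _ ≪≫
    biprod.mapIso r t ≪≫ freeModTwoIso _⟩⟩

end Groth.Agent.DblAlgLib
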