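import Groth.Agent.GenLocus.PullTensor

/-!
# Pairings on an invertible module
-/

set_option autoImplicit false

noncomputable section

universe u

open CategoryTheory CategoryTheory.Limits AlgebraicGeometry TopologicalSpace Opposite
open Groth.Agent.QCohBase Groth.Agent.GenLocus

namespace Groth.Agent.DblAlgLib

variable {X : Scheme.{u}} {L : X.Modules} (m : CohB1.tensorMod L L ⟶ Coh.structureModule X)

/-- the pairing on sections -/
def pr (U : X.Opens) (a c : Γ(L, U)) : Γ(X, U) := m.app U (SecTwist.tmul L L U a c)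

theorem pr_add_left (U : X.Opens) (a a' c : Γ(L, U)) : pr m U (a + a') c = pr m U a c + pr m U a' c := by
  have h : SecTwist.tmul L L U (a + a') c = SecTwist.tmul L L U a c + SecTwist.tmul L L U a' c :=
    DFunLike.congr_fun (map_add (tmulBi L L U) a a') c
  exact (congrArg (m.app U).hom h).trans (map_add _ _ _)

theorem pr_add_right (U : X.Opens) (a c c' : Γ(L, U)) : pr m U a (c + c') = pr m U a c + pr m U a c' :=
  (congrArg (m.app U).hom (map_add (tmulBi L L U a) c c')).trans (map_add _ _ _)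

theorem pr_zero_left (U : X.Opens) (c : Γ(L, U)) : pr m U 0 c = 0 :=
  (congrArg (m.app U).hom (DFunLike.congr_fun (map_zero (tmulBi L L U)) c)).trans (map_zero _)

theorem pr_zero_right (U : X.Opens) (c : Γ(L, U)) : pr m U c 0 = 0 :=
  (congrArg (m.app U).hom (map_zero (tmulBi L L U c))).trans (map_zero _)

theorem pr_smul_left (U : X.Opens) (f : Γ(X, U)) (a c : Γ(L, U)) : pr m U (f • a) c = f * pr m U a c :=
  (congrArg (m.app U).hom (tmul_smul_left L L f a c)).trans (Scheme.Modules.Hom.app_smul m f _)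

theorem pr_smul_right (U : X.Opens) (f : Γ(X, U)) (a c : Γ(L, U)) : pr m U a (f • c) = f * pr m U a c :=
  (congrArg (m.app U).hom (tmul_smul_right L L f a c)).trans (Scheme.Modules.Hom.app_smul m f _)

theorem res_pr {U V : X.Opens} (h : V ≤ U) (a c : Γ(L, U)) :
    ores h (pr m U a c) = pr m V (mres L h a) (mres L h c) :=
  (ConcreteCategory.congr_hom (m.mapPresheaf.naturality (homOfLE h).op) _).symm.trans
    (congrArg (m.app V).hom (SecTwist.map_tmul L L (homOfLE h) a c))

theorem pr_symm (hL : PicF.IsInvertible L) (U : X.Opens) (a c : Γ(L, U)) : pr m U a c = pr m U c a := by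
  refine (X.sheaf).eq_of_locally_eq' (fun V : {V : X.Opens // V ≤ U ∧ ∃ e : Γ(L, V), IsFrame L e} => V.1)
    U (fun V => homOfLE V.2.1) (fun x hx => ?_) _ _ fun V => ?_
  · obtain ⟨V, -, hxV, hVU, he⟩ := exists_isFrame hL hx
    exact Opens.mem_iSup.2 ⟨⟨V, hVU, he⟩, hxV⟩
  · obtain ⟨e, he⟩ := V.2.2
    show ores V.2.1 (pr m U a c) = ores V.2.1 (pr m U c a)
    obtain ⟨α, hα⟩ := he.bijective.2 (mres L V.2.1 a)
    obtain ⟨γ, hγ⟩ := he.bijective.2 (mres L V.2.1 c)
    rw [res_pr, res_pr, ← hα, ← hγ]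
    simp only [pr_smul_left, pr_smul_right]
    ring

theorem pr_assoc (hL : PicF.IsInvertible L) (U : X.Opens) (a c d : Γ(L, U)) :
    pr m U a c • d = pr m U c d • a := by
  refine TopCat.Sheaf.eq_of_locally_eq' (⟨L.presheaf, L.isSheaf⟩ : TopCat.Sheaf Ab X)
    (fun V : {V : X.Opens // V ≤ U ∧ ∃ e : Γ(L, V), IsFrame L e} => V.1)
    U (fun V => homOfLE V.2.1) (fun x hx => ?_) _ _ fun V => ?_
  · obtain ⟨V, -, hxV, hVU, he⟩ := exists_isFrame hL hx
    exact Opens.mem_iSup.2 ⟨⟨V, hVU, he⟩, hxV⟩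
  · obtain ⟨e, he⟩ := V.2.2
    show mres L V.2.1 (pr m U a c • d) = mres L V.2.1 (pr m U c d • a)
    obtain ⟨α, hα⟩ := he.bijective.2 (mres L V.2.1 a)
    obtain ⟨γ, hγ⟩ := he.bijective.2 (mres L V.2.1 c)
    obtain ⟨δ, hδ⟩ := he.bijective.2 (mres L V.2.1 d)
    rw [mres_smul, mres_smul, res_pr, res_pr, ← hα, ← hγ, ← hδ]
    simp only [pr_smul_left, pr_smul_right, smul_smul]
    congr 1
    ring

end Groth.Agent.DblAlgLib
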